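import Groth.Prelude.Def_FDesc
import Groth.Agent.AssFlatLib.Basic
import Groth.Agent.S2546
import Groth.Agent.S4628
import Groth.Agent.CurvLib.EulerTensor
import Groth.Agent.IntTensorLib.Scheme
import Groth.Agent.FlatLib.FibScheme
import Groth.Agent.GeomRedFieldLib.Scheme
import Groth.Agent.GeomRedFieldLib.Reduction
import Groth.Agent.GeomRedFieldLib.Generic
import Groth.Agent.PerfBaseLib.SplitSheaf
import Groth.Agent.DevissLib.ClosedImm

/-! Reduced modules under base change of the ground field. -/

set_option autoImplicit false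
set_option maxHeartbeats 1000000
set_option maxSynthPendingDepth 4
set_option backward.isDefEq.respectTransparency false
set_option backward.isDefEq.respectTransparency.types false
universe u

open CategoryTheory CategoryTheory.Limits AlgebraicGeometry IsLocalRing

namespace RedModLib

theorem length_self_eq_one_iff (R : Type u) [CommRing R] [Nontrivial R] : Module.length R R = 1 ↔ IsField R := by
  rw [Module.length_eq_one_iff, isSimpleModule_self_iff_isUnit]
  constructor
  · rintro ⟨-, h⟩
    exact ⟨exists_pair_ne R, mul_comm, fun {a} ha => (h a ha).exists_right_inv⟩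
  · intro h
    letI := h.toField
    exact ⟨inferInstance, fun a ha => isUnit_iff_ne_zero.2 ha⟩

theorem mem_support_structure {X : Scheme.{u}} (x : X) : x ∈ CohB1.support (Coh.structureModule X) := by
  intro h
  haveI : Subsingleton ↑((DevissLib.St x).obj (Coh.structureModule X)) := h
  haveI : Subsingleton (X.presheaf.stalk x) := (CurvLib.stalkStructureEquiv x).toEquiv.symm.subsingleton
  exact false_of_nontrivial_of_subsingleton (X.presheaf.stalk x)

theorem mem_ass_congr {X : Scheme.{u}} {M N : X.Modules}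
    (h : ∀ x : X, Nonempty (M.presheaf.stalk x ≃ₗ[X.presheaf.stalk x] N.presheaf.stalk x)) (x : X) :
    x ∈ AssSch.Ass M ↔ x ∈ AssSch.Ass N := by
  obtain ⟨e⟩ := h x
  exact Set.ext_iff.1 (LinearEquiv.AssociatedPrimes.eq e) _

theorem isReducedMod_congr {X : Scheme.{u}} {M N : X.Modules}
    (h : ∀ x : X, Nonempty (M.presheaf.stalk x ≃ₗ[X.presheaf.stalk x] N.presheaf.stalk x)) :
    AssSch.IsReducedMod M ↔ AssSch.IsReducedMod N := by
  have hl : ∀ x : X, Module.length (X.presheaf.stalk x) (M.presheaf.stalk x) =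
      Module.length (X.presheaf.stalk x) (N.presheaf.stalk x) := fun x => by
    obtain ⟨e⟩ := h x
    exact e.length_eq
  constructor
  · rintro ⟨h1, h2⟩
    exact ⟨fun a ha b hb hba => h1 a ((mem_ass_congr h a).2 ha) b ((mem_ass_congr h b).2 hb) hba,
      fun a ha => (hl a).symm.trans (h2 a ((mem_ass_congr h a).2 ha))⟩
  · rintro ⟨h1, h2⟩
    exact ⟨fun a ha b hb hba => h1 a ((mem_ass_congr h a).1 ha) b ((mem_ass_congr h b).1 hb) hba,
      fun a ha => (hl a).trans (h2 a ((mem_ass_congr h a).1 ha))⟩

theorem nonempty_stalk_pullback_structure {Z X : Scheme.{u}} (i : Z ⟶ X) (z : Z) :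
    Nonempty (((Scheme.Modules.pullback i).obj (Coh.structureModule X)).presheaf.stalk z
      ≃ₗ[Z.presheaf.stalk z] (Coh.structureModule Z).presheaf.stalk z) := by
  letI : Algebra (X.presheaf.stalk (i z)) (Z.presheaf.stalk z) := (i.stalkMap z).hom.toAlgebra
  exact ⟨(((KFlatLib.stalkPullIso i z).app (Coh.structureModule X)).toLinearEquiv.trans
    (((TensorProduct.AlgebraTensorModule.congr (LinearEquiv.refl (Z.presheaf.stalk z) (Z.presheaf.stalk z))
      (CurvLib.stalkStructureEquiv (i z))).trans
        (TensorProduct.AlgebraTensorModule.rid (X.presheaf.stalk (i z)) (Z.presheaf.stalk z) (Z.presheaf.stalk z))))).trans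
          (CurvLib.stalkStructureEquiv z).symm⟩

theorem nonempty_stalk_tensor_structure {X Y : Scheme.{u}} (f : X ⟶ Y) (E : Y.Modules) (x : X) :
    Nonempty ((CohB1.tensorMod ((Scheme.Modules.pullback f).obj E) (Coh.structureModule X)).presheaf.stalk x
      ≃ₗ[X.presheaf.stalk x] ((Scheme.Modules.pullback f).obj E).presheaf.stalk x) :=
  ⟨((LinearEquiv.ofBijective (KFlatLib.stalkTensorLin _ (Coh.structureModule X) x)
      (KFlatLib.stalkTensorLin_bijective _ (Coh.structureModule X) x)).symm).trans
    ((TensorProduct.congr (LinearEquiv.refl _ _) (CurvLib.stalkStructureEquiv x)).trans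
      (TensorProduct.rid _ _))⟩

/-- The structure sheaf of a locally Noetherian scheme is a reduced module iff the scheme is reduced. -/
theorem isReducedMod_structure_iff {Z : Scheme.{u}} [IsLocallyNoetherian Z] :
    AssSch.IsReducedMod (Coh.structureModule Z) ↔ AlgebraicGeometry.IsReduced Z := by
  constructor
  · rintro ⟨-, hlen⟩
    haveI : ∀ z : Z, _root_.IsReduced (Z.presheaf.stalk z) := by
      intro z
      obtain ⟨U, hU, hzU, -⟩ := exists_isAffineOpen_mem_and_subset (X := Z) (x := z) (U := ⊤) trivial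
      haveI : IsNoetherianRing Γ(Z, U) := IsLocallyNoetherian.component_noetherian ⟨U, hU⟩
      haveI : _root_.IsReduced Γ(Z, U) := by
        refine ⟨fun r hr => ?_⟩
        by_contra hr0
        obtain ⟨P, hP, hle⟩ := exists_le_isAssociatedPrime_of_isNoetherianRing Γ(Z, U) r hr0
        have hq : (⟨P, hP.1⟩ : PrimeSpectrum Γ(Z, U)).asIdeal ∈ associatedPrimes Γ(Z, U) Γ(Z, U) := hP
        have hwA := IntTensorLib.fromSpec_mem_ass hU hq
        set w := hU.fromSpec ⟨P, hP.1⟩
        have hwU : w ∈ U := by
          have : w ∈ (hU.fromSpec.opensRange : Set Z) := ⟨_, rfl⟩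
          rwa [hU.opensRange_fromSpec] at this
        have h1 := hlen w hwA
        replace h1 : IsField (Z.presheaf.stalk w) :=
          (length_self_eq_one_iff _).1 ((LinearEquiv.length_eq (CurvLib.stalkStructureEquiv w)).symm.trans h1)
        letI := Z.presheaf.algebra_section_stalk (U := U) ⟨w, hwU⟩
        haveI hloc := hU.isLocalization_stalk ⟨w, hwU⟩
        have h0 : algebraMap Γ(Z, U) (Z.presheaf.stalk w) r = 0 := by
          letI := h1.toField
          exact (hr.map _).eq_zero
        obtain ⟨⟨c, hc⟩, hcr⟩ := (IsLocalization.map_eq_zero_iff (hU.primeIdealOf ⟨w, hwU⟩).asIdeal.primeCompl _ r).1 h0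
        apply hc
        rw [show hU.primeIdealOf ⟨w, hwU⟩ = ⟨P, hP.1⟩ from
          hU.fromSpec.isOpenEmbedding.injective (hU.fromSpec_primeIdealOf ⟨w, hwU⟩)]
        exact hle (Submodule.mem_colon_singleton.2 ((Submodule.mem_bot _).2 hcr))
      letI := Z.presheaf.algebra_section_stalk (U := U) ⟨z, hzU⟩
      haveI := hU.isLocalization_stalk ⟨z, hzU⟩
      exact isReduced_localizationPreserves (hU.primeIdealOf ⟨z, hzU⟩).asIdeal.primeCompl _ inferInstance
    exact isReduced_of_isReduced_stalk Z
  · intro h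
    have key : ∀ x ∈ AssSch.Ass (Coh.structureModule Z), IsField (Z.presheaf.stalk x) := by
      intro x hx
      haveI : IsNoetherianRing (Z.presheaf.stalk x) := inferInstance
      have hm : maximalIdeal (Z.presheaf.stalk x) ∈ associatedPrimes (Z.presheaf.stalk x) (Z.presheaf.stalk x) :=
        (LinearEquiv.AssociatedPrimes.eq (CurvLib.stalkStructureEquiv x)).subset hx
      rw [IsLocalRing.isField_iff_maximalIdeal_eq, eq_bot_iff]
      obtain ⟨-, a, ha⟩ := isAssociatedPrime_iff.1 hm
      intro m hm'
      have ha0 : a ≠ 0 := by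
        rintro rfl
        refine (maximalIdeal.isMaximal (Z.presheaf.stalk x)).ne_top (ha.trans ?_)
        rw [eq_top_iff]
        intro t _
        exact Submodule.mem_colon_singleton.2 ((Submodule.mem_bot _).2 (smul_zero t))
      by_contra hm0
      have hma : ∀ t ∈ maximalIdeal (Z.presheaf.stalk x), t * a = 0 := fun t ht => by
        rw [ha] at ht
        exact (Submodule.mem_bot _).1 (Submodule.mem_colon_singleton.1 ht)
      by_cases hu : IsUnit a
      · exact hm0 ((Submodule.mem_bot _).2 (hu.mul_left_eq_zero.1 (hma m hm')))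
      · exact ha0 (IsReduced.eq_zero a ⟨2, by rw [sq]; exact hma a ((IsLocalRing.mem_maximalIdeal a).2 hu)⟩)
    refine ⟨fun x hx y hy hyx => ?_, fun x hx => ?_⟩
    · obtain ⟨p, hp⟩ := EquidimLib.exists_stalkPt hyx
      letI := (key x hx).toField
      rw [← hp, show p = closedPoint (Z.presheaf.stalk x) from Subsingleton.elim _ _]
      exact Scheme.fromSpecStalk_closedPoint.symm
    · exact (LinearEquiv.length_eq (CurvLib.stalkStructureEquiv x)).trans ((length_self_eq_one_iff _).2 (key x hx))

/-- Fibres of morphisms out of locally Noetherian schemes are locally Noetherian. -/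
theorem isLocallyNoetherian_fiber {X Y : Scheme.{u}} [IsLocallyNoetherian X] (f : X ⟶ Y) (y : Y) :
    IsLocallyNoetherian (f.fiber y) := by
  obtain ⟨U, hU, hyU, -⟩ := exists_isAffineOpen_mem_and_subset (X := Y) (x := y) (U := ⊤) trivial
  suffices ∀ z : f.fiber y, ∃ (R : CommRingCat.{u}) (θ : Spec R ⟶ f.fiber y), IsOpenImmersion θ ∧
      z ∈ Set.range θ ∧ IsNoetherianRing R by
    choose R θ hθ hz hR using this
    exact (isLocallyNoetherian_iff_openCover
      ({ I₀ := f.fiber y, X := fun z => Spec (R z), f := θ,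
         mem₀ := by
           rw [Scheme.presieve₀_mem_precoverage_iff]
           exact ⟨fun z => ⟨z, hz z⟩, fun z => hθ z⟩ } : (f.fiber y).OpenCover)).2 fun z => by
      haveI := hR z
      infer_instance
  intro z
  have hfz : f (f.fiberι y z) ∈ U := by rw [AssFlatLib.f_fiberι]; exact hyU
  obtain ⟨V, hV, hzV, hVU⟩ := exists_isAffineOpen_mem_and_subset (X := X) (x := f.fiberι y z) (U := f ⁻¹ᵁ U) hfz
  haveI : IsNoetherianRing Γ(X, V) := IsLocallyNoetherian.component_noetherian ⟨V, hV⟩
  letI : Algebra Γ(Y, U) Γ(X, V) := (f.appLE U V hVU).hom.toAlgebra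
  letI algS : Algebra Γ(Y, U) (Y.presheaf.stalk y) := Y.presheaf.algebra_section_stalk (U := U) ⟨y, hyU⟩
  haveI := hU.isLocalization_stalk ⟨y, hyU⟩
  letI : Algebra (Y.presheaf.stalk y) (Y.residueField y) := (Y.residue y).hom.toAlgebra
  letI : Algebra Γ(Y, U) (Y.residueField y) :=
    ((Y.residue y).hom.comp (Y.presheaf.germ U y hyU).hom).toAlgebra
  haveI : IsScalarTower Γ(Y, U) (Y.presheaf.stalk y) (Y.residueField y) := IsScalarTower.of_algebraMap_eq' rfl
  haveI : Algebra.EssFiniteType Γ(Y, U) (Y.presheaf.stalk y) :=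
    Algebra.EssFiniteType.of_isLocalization _ (hU.primeIdealOf ⟨y, hyU⟩).asIdeal.primeCompl
  haveI : Algebra.FiniteType (Y.presheaf.stalk y) (Y.residueField y) :=
    Algebra.FiniteType.of_surjective (Algebra.ofId _ _) (Y.residue_surjective y)
  haveI : Algebra.EssFiniteType Γ(Y, U) (Y.residueField y) :=
    Algebra.EssFiniteType.comp _ (Y.presheaf.stalk y) _
  have hg : hV.fromSpec ≫ f = Spec.map (CommRingCat.ofHom (algebraMap Γ(Y, U) Γ(X, V))) ≫ hU.fromSpec :=
    (hU.SpecMap_appLE_fromSpec f hV hVU).symm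
  have hs : (Iso.refl (Spec (CommRingCat.of (Y.residueField y)))).hom ≫ Y.fromSpecResidueField y =
      Spec.map (CommRingCat.ofHom (algebraMap Γ(Y, U) (Y.residueField y))) ≫ hU.fromSpec := by
    rw [Iso.refl_hom, Category.id_comp, Scheme.fromSpecResidueField,
      ← hU.fromSpecStalk_eq_fromSpecStalk hyU, IsAffineOpen.fromSpecStalk, ← Category.assoc, ← Spec.map_comp]
    rfl
  obtain ⟨θ, hθ, -, -, hcov⟩ := FlatLib.exists_fibre_chart f hV.fromSpec hU.fromSpec hg y (Iso.refl _) hs
  refine ⟨_, θ, hθ, hcov z ?_, ?_⟩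
  · show f.fiberι y z ∈ Set.range hV.fromSpec
    rw [hV.range_fromSpec]
    exact hzV
  · show IsNoetherianRing (TensorProduct Γ(Y, U) (Y.residueField y) Γ(X, V))
    haveI : IsNoetherianRing (TensorProduct Γ(Y, U) Γ(X, V) (Y.residueField y)) :=
      Algebra.EssFiniteType.isNoetherianRing Γ(X, V) _
    exact isNoetherianRing_of_ringEquiv _
      (Algebra.TensorProduct.comm Γ(Y, U) Γ(X, V) (Y.residueField y)).toRingEquiv

/-- The reduced-module criterion for pullbacks along flat morphisms. -/
theorem isReducedMod_pullback_iff {X' X : Scheme.{u}} [IsLocallyNoetherian X'] [IsLocallyNoetherian X]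
    (g : X' ⟶ X) [Flat g] (E : X.Modules) (hE : Coh.IsCoh E) :
    AssSch.IsReducedMod ((Scheme.Modules.pullback g).obj E) ↔
      ∀ x ∈ AssSch.Ass E, x ∈ Set.range g →
        (∀ x' ∈ AssSch.Ass E, x' ⤳ x → x' = x) ∧ Module.length (X.presheaf.stalk x) (E.presheaf.stalk x) = 1 ∧
          AlgebraicGeometry.IsReduced (g.fiber x) := by
  rw [← isReducedMod_congr (nonempty_stalk_tensor_structure g E),
    Groth.Agent.S2546.result g E hE _ (DevissLib.isCoh_structureModule X') (PerfBaseLib.isFlatOver_unit g)]
  have hr : ∀ x, AssSch.IsReducedMod ((Scheme.Modules.pullback (g.fiberι x)).obj (Coh.structureModule X')) ↔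
      AlgebraicGeometry.IsReduced (g.fiber x) := fun x => by
    haveI := isLocallyNoetherian_fiber g x
    rw [isReducedMod_congr (nonempty_stalk_pullback_structure (g.fiberι x)), isReducedMod_structure_iff]
  have hsupp : CohB1.support (Coh.structureModule X') = Set.univ := Set.eq_univ_of_forall mem_support_structure
  simp only [hsupp, Set.image_univ, Set.mem_inter_iff, and_imp, hr]

variable {k : Type u} [Field k] {X : Scheme.{u}} (f : X ⟶ Spec (CommRingCat.of k))

/-- What geometric reducedness of a coherent module comes down to. -/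
def GeomRedAt (F : X.Modules) : Prop :=
  ∀ x ∈ AssSch.Ass F, (∀ x' ∈ AssSch.Ass F, x' ⤳ x → x' = x) ∧
    Module.length (X.presheaf.stalk x) (F.presheaf.stalk x) = 1 ∧
      GeometricallyReduced (X.fromSpecResidueField x ≫ f)

theorem flat_to_spec_field {T : Scheme.{u}} (q : T ⟶ Spec (CommRingCat.of k)) : Flat q := inferInstance

theorem isReduced_fiber_baseChange {X' S : Scheme.{u}} (g : X' ⟶ X) (q : X' ⟶ S)
    (s : S ⟶ Spec (CommRingCat.of k)) (hsq : IsPullback g q f s) [AlgebraicGeometry.IsReduced S] (x : X)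
    (hx : GeometricallyReduced (X.fromSpecResidueField x ≫ f)) : AlgebraicGeometry.IsReduced (g.fiber x) := by
  haveI : AlgebraicGeometry.IsReduced (pullback (X.fromSpecResidueField x ≫ f) s) :=
    Groth.Agent.S4628.result (X.fromSpecResidueField x ≫ f) s
  let e : g.fiber x ≅ pullback (X.fromSpecResidueField x ≫ f) s :=
    (IsPullback.of_hasPullback g (X.fromSpecResidueField x)).flip.paste_vert hsq |>.isoPullback
  exact isReduced_of_isOpenImmersion e.hom

theorem isReducedMod_baseChange [IsLocallyNoetherian X] {F : X.Modules} (hF : Coh.IsCoh F) (hr : GeomRedAt f F)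
    {X' S : Scheme.{u}} [IsLocallyNoetherian X'] [AlgebraicGeometry.IsReduced S] (g : X' ⟶ X) (q : X' ⟶ S)
    (s : S ⟶ Spec (CommRingCat.of k)) (hsq : IsPullback g q f s) :
    AssSch.IsReducedMod ((Scheme.Modules.pullback g).obj F) := by
  haveI : Flat g := MorphismProperty.of_isPullback hsq.flip (flat_to_spec_field s)
  exact (isReducedMod_pullback_iff g F hF).2 fun x hx _ =>
    ⟨(hr x hx).1, (hr x hx).2.1, isReduced_fiber_baseChange f g q s hsq x (hr x hx).2.2⟩

theorem geomRedAt_of_forall [IsLocallyNoetherian X] {F : X.Modules} (hF : Coh.IsCoh F)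
    (h : ∀ (k' : Type u) [Field k'] [Algebra k k'] [FiniteDimensional k k'] [IsPurelyInseparable k k'],
      AssSch.IsReducedMod ((Scheme.Modules.pullback (FBase.bcπ f k')).obj F)) : GeomRedAt f F := by
  have key : ∀ (k' : Type u) [Field k'] [Algebra k k'] [FiniteDimensional k k'] [IsPurelyInseparable k k'],
      ∀ x ∈ AssSch.Ass F, (∀ x' ∈ AssSch.Ass F, x' ⤳ x → x' = x) ∧
        Module.length (X.presheaf.stalk x) (F.presheaf.stalk x) = 1 ∧
          AlgebraicGeometry.IsReduced (pullback (X.fromSpecResidueField x ≫ f)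
            (Spec.map (CommRingCat.ofHom (algebraMap k k')))) := by
    intro k' _ _ _ _ x hx
    haveI : IsFinite (Spec.map (CommRingCat.ofHom (algebraMap k k'))) :=
      (IsFinite.SpecMap_iff _).2 (RingHom.finite_algebraMap.2 inferInstance)
    haveI : Surjective (Spec.map (CommRingCat.ofHom (algebraMap k k'))) :=
      ⟨fun _ => ⟨Classical.arbitrary _, Subsingleton.elim _ _⟩⟩
    haveI : LocallyOfFiniteType (FBase.bcπ f k') := by delta FBase.bcπ; infer_instance
    haveI : Surjective (FBase.bcπ f k') := by delta FBase.bcπ; infer_instance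
    haveI : Flat (FBase.bcπ f k') := by
      haveI := flat_to_spec_field (Spec.map (CommRingCat.ofHom (algebraMap k k')))
      delta FBase.bcπ; infer_instance
    haveI : IsLocallyNoetherian (FBase.bc f k') := LocallyOfFiniteType.isLocallyNoetherian (FBase.bcπ f k')
    obtain ⟨h1, h2, h3⟩ := (isReducedMod_pullback_iff (FBase.bcπ f k') F hF).1 (h k') x hx ((FBase.bcπ f k').surjective x)
    refine ⟨h1, h2, ?_⟩
    haveI := h3
    let e : (FBase.bcπ f k').fiber x ≅ pullback (X.fromSpecResidueField x ≫ f)
        (Spec.map (CommRingCat.ofHom (algebraMap k k'))) :=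
      (IsPullback.of_hasPullback (FBase.bcπ f k') (X.fromSpecResidueField x)).flip.paste_vert
        (IsPullback.of_hasPullback f (Spec.map (CommRingCat.ofHom (algebraMap k k')))) |>.isoPullback
    exact isReduced_of_isOpenImmersion e.inv
  intro x hx
  refine ⟨(key k x hx).1, (key k x hx).2.1, GeomRedFieldLib.gr_of_charts _ fun T _ _ j hjo hj ↦ ?_⟩
  refine GeomRedFieldLib.isGeometricallyReduced_of_finite_purelyInseparable T fun k' _ _ _ _ ↦ ?_
  haveI := hjo
  obtain ⟨m, hm, -, -⟩ := GeomRedFieldLib.exists_bcChart (X.fromSpecResidueField x ≫ f) k' j hj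
  haveI := hm
  haveI : AlgebraicGeometry.IsReduced (pullback (X.fromSpecResidueField x ≫ f) (GeomRedFieldLib.str k k')) :=
    (key k' x hx).2.2
  exact (affine_isReduced_iff _).mp (isReduced_of_isOpenImmersion m)

end RedModLib
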