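import Groth.Agent.RedModLib.Basic
import Groth.Agent.GeomIrrLib.Basic

/-! Integral modules under base change of the ground field. -/

set_option autoImplicit false
set_option maxHeartbeats 1000000
set_option maxSynthPendingDepth 4
set_option backward.isDefEq.respectTransparency false
set_option backward.isDefEq.respectTransparency.types false
universe u

open CategoryTheory CategoryTheory.Limits AlgebraicGeometry IsLocalRing

namespace RedModLib

theorem exists_ass_structure_specializes {Z : Scheme.{u}} [IsLocallyNoetherian Z] [AlgebraicGeometry.IsReduced Z]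
    (z : Z) : ∃ η ∈ AssSch.Ass (Coh.structureModule Z), η ⤳ z ∧ closure ({η} : Set Z) = irreducibleComponent z := by
  obtain ⟨η, hη⟩ : ∃ η, IsGenericPoint η (irreducibleComponent z) :=
    QuasiSober.sober isIrreducible_irreducibleComponent isClosed_irreducibleComponent
  refine ⟨η, ?_, hη.specializes mem_irreducibleComponent, hη.def⟩
  have hmax : ∀ w, w ⤳ η → w = η := fun w hw => by
    have h1 : irreducibleComponent z ⊆ closure {w} := by
      rw [← hη.def]; exact specializes_iff_closure_subset.1 hw
    have h2 := (irreducibleComponent_mem_irreducibleComponents z).2 isIrreducible_singleton.closure h1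
    exact (hw.antisymm (specializes_iff_closure_subset.2 (by rw [hη.def]; exact h2))).eq
  have hp : ∀ p : PrimeSpectrum (Z.presheaf.stalk η), p.asIdeal = maximalIdeal (Z.presheaf.stalk η) := fun p => by
    have h1 : EquidimLib.stalkPt η p = EquidimLib.stalkPt η (closedPoint _) :=
      (hmax _ (EquidimLib.stalkPt_specializes η p)).trans Scheme.fromSpecStalk_closedPoint.symm
    rw [EquidimLib.stalkPt_injective η h1]
    rfl
  have hbot : maximalIdeal (Z.presheaf.stalk η) = ⊥ := by
    rw [eq_bot_iff, ← Submodule.zero_eq_bot, ← nilradical_eq_zero (Z.presheaf.stalk η)]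
    intro a ha
    rw [nilradical_eq_sInf, Submodule.mem_sInf]
    intro q hq
    have hq2 : q = maximalIdeal (Z.presheaf.stalk η) := hp ⟨q, hq⟩
    rwa [hq2]
  refine (LinearEquiv.AssociatedPrimes.eq (CurvLib.stalkStructureEquiv η)).ge ?_
  refine isAssociatedPrime_iff.2 ⟨inferInstance, 1, ?_⟩
  ext a
  simp [hbot, Submodule.mem_colon_singleton]

theorem specializes_of_mem_ass_structure {Z : Scheme.{u}} [IsLocallyNoetherian Z] [AlgebraicGeometry.IsReduced Z]
    {a b : Z} (ha : a ∈ AssSch.Ass (Coh.structureModule Z)) (hb : b ∈ AssSch.Ass (Coh.structureModule Z))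
    (h : b ⤳ a) : a = b :=
  ((isReducedMod_structure_iff (Z := Z)).2 ‹_›).1 a ha b hb h

theorem subsingleton_ass_structure_iff {Z : Scheme.{u}} [IsLocallyNoetherian Z] [AlgebraicGeometry.IsReduced Z]
    [Nonempty Z] : (AssSch.Ass (Coh.structureModule Z)).Subsingleton ↔ IrreducibleSpace Z := by
  constructor
  · intro h
    obtain ⟨z₀⟩ := ‹Nonempty Z›
    obtain ⟨η₀, hη₀, -, -⟩ := exists_ass_structure_specializes z₀
    have hu : closure ({η₀} : Set Z) = Set.univ := Set.eq_univ_of_forall fun z => by
      obtain ⟨η, hη, hs, -⟩ := exists_ass_structure_specializes z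
      obtain rfl := h hη hη₀
      exact specializes_iff_mem_closure.1 hs
    refine (irreducibleSpace_def _).2 ?_
    show IsIrreducible (Set.univ : Set Z)
    rw [← hu]
    exact isIrreducible_singleton.closure
  · intro _ a ha b hb
    have hg : ∀ c ∈ AssSch.Ass (Coh.structureModule Z), c = genericPoint Z := fun c hc => by
      obtain ⟨η, hη, hs, hcl⟩ := exists_ass_structure_specializes c
      rw [specializes_of_mem_ass_structure hc hη hs]
      refine (genericPoint_spec Z).eq ?_ |>.symm
      show IsGenericPoint η Set.univ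
      rw [IsGenericPoint, hcl]
      exact Set.univ_subset_iff.1 ((irreducibleComponent_mem_irreducibleComponents c).2 (IrreducibleSpace.isIrreducible_univ _) (Set.subset_univ _))
    rw [hg a ha, hg b hb]

variable {X' X : Scheme.{u}} [IsLocallyNoetherian X'] [IsLocallyNoetherian X] (g : X' ⟶ X) [Flat g]
  (E : X.Modules)

theorem mem_ass_pullback_iff (hE : Coh.IsCoh E) (a : X') :
    a ∈ AssSch.Ass ((Scheme.Modules.pullback g).obj E) ↔
      g a ∈ AssSch.Ass E ∧ g.asFiber a ∈ AssSch.Ass (Coh.structureModule (g.fiber (g a))) := by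
  rw [← mem_ass_congr (nonempty_stalk_tensor_structure g E),
    AssFlatLib.mem_ass_tensor_iff g hE (DevissLib.isCoh_structureModule X') (PerfBaseLib.isFlatOver_unit g),
    ← mem_ass_congr (nonempty_stalk_pullback_structure (g.fiberι (g a))),
    AssFlatLib.mem_ass_fiber_iff g _ (g a) (g.asFiber a), Scheme.Hom.fiberι_asFiber]

theorem exists_mem_ass_pullback (hE : Coh.IsCoh E) (x : X) (hx : x ∈ AssSch.Ass E)
    [AlgebraicGeometry.IsReduced (g.fiber x)] (u : g.fiber x) (hu : u ∈ AssSch.Ass (Coh.structureModule (g.fiber x))) :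
    g.fiberι x u ∈ AssSch.Ass ((Scheme.Modules.pullback g).obj E) := by
  rw [mem_ass_pullback_iff g E hE]
  have he := AssFlatLib.f_fiberι g u
  refine ⟨he.symm ▸ hx, ?_⟩
  generalize ha : g.fiberι x u = a at he
  subst he
  convert hu
  exact (g.fiberι _).isEmbedding.injective ((g.fiberι_asFiber a).trans ha.symm)

theorem subsingleton_ass_fiber (hE : Coh.IsCoh E) (hs : (AssSch.Ass ((Scheme.Modules.pullback g).obj E)).Subsingleton)
    (x : X) (hx : x ∈ AssSch.Ass E) [AlgebraicGeometry.IsReduced (g.fiber x)] :
    (AssSch.Ass (Coh.structureModule (g.fiber x))).Subsingleton := fun a ha b hb =>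
  (g.fiberι x).isEmbedding.injective
    (hs (exists_mem_ass_pullback g E hE x hx a ha) (exists_mem_ass_pullback g E hE x hx b hb))

theorem ass_pullback_eq_singleton (hE : Coh.IsCoh E) (x : X) (hx : AssSch.Ass E = {x})
    [AlgebraicGeometry.IsReduced (g.fiber x)] [IrreducibleSpace ↥(g.fiber x)] :
    ∃ x', AssSch.Ass ((Scheme.Modules.pullback g).obj E) = {x'} := by
  haveI := isLocallyNoetherian_fiber g x
  obtain ⟨η, hη, -, -⟩ := exists_ass_structure_specializes (genericPoint (g.fiber x))
  refine ⟨g.fiberι x η, Set.eq_singleton_iff_unique_mem.2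
    ⟨exists_mem_ass_pullback g E hE x (hx ▸ rfl) η hη, fun a ha => ?_⟩⟩
  obtain ⟨ha1, ha2⟩ := (mem_ass_pullback_iff g E hE a).1 ha
  rw [hx, Set.mem_singleton_iff] at ha1
  subst ha1
  rw [subsingleton_ass_structure_iff.2 ‹_› hη ha2, Scheme.Hom.fiberι_asFiber]

end RedModLib
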